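import Mathlib

universe u

open TensorProduct

namespace Groth.Agent.FlatInter

variable {R : Type u} [CommRing R] (M : Type u) [AddCommGroup M] [Module R M]

lemma injective_iff_baseChange (A : Type u) [CommRing A] [Algebra R A] {P Q : Type u} [AddCommGroup P]
    [AddCommGroup Q] [Module A P] [Module A Q] [Module R P] [Module R Q] [IsScalarTower R A P]
    [IsScalarTower R A Q] (g : P →ₗ[A] Q) :
    Function.Injective (g.rTensor (A ⊗[R] M)) ↔ Function.Injective ((g.restrictScalars R).rTensor M) := by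
  let eP := TensorProduct.AlgebraTensorModule.cancelBaseChange R A A P M
  let eQ := TensorProduct.AlgebraTensorModule.cancelBaseChange R A A Q M
  have h : (fun z => eQ (g.rTensor (A ⊗[R] M) z)) = fun z => (g.restrictScalars R).rTensor M (eP z) := by
    funext z
    induction z using TensorProduct.induction_on with
    | zero => simp
    | add x y hx hy => simp [hx, hy]
    | tmul a b =>
      induction b using TensorProduct.induction_on with
      | zero => simp
      | add x y hx hy => simp only [TensorProduct.tmul_add, map_add, hx, hy]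
      | tmul c m => simp [eP, eQ]
  constructor
  · intro hg a b hab
    obtain ⟨a, rfl⟩ := eP.surjective a
    obtain ⟨b, rfl⟩ := eP.surjective b
    rw [hg (eQ.injective ((congrFun h a).trans (hab.trans (congrFun h b).symm)))]
  · intro hg a b hab
    exact eP.injective (hg ((congrFun h a).symm.trans ((congrArg eQ hab).trans (congrFun h b))))

/-- An `R`-submodule of `R/I` stays injective after tensoring with `M`, if `M/IM` is flat over `R/I`. -/
lemma rTensor_injective (I : Ideal R) [Module.Flat (R ⧸ I) ((R ⧸ I) ⊗[R] M)] {N : Type u} [AddCommGroup N]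
    [Module R N] (f : N →ₗ[R] R ⧸ I) (hf : Function.Injective f) :
    Function.Injective (f.rTensor M) := by
  let J : Ideal (R ⧸ I) :=
    { carrier := Set.range f
      add_mem' := by rintro _ _ ⟨x, rfl⟩ ⟨y, rfl⟩; exact ⟨x + y, map_add f x y⟩
      zero_mem' := ⟨0, map_zero f⟩
      smul_mem' := by
        rintro c _ ⟨x, rfl⟩
        obtain ⟨r, rfl⟩ := Ideal.Quotient.mk_surjective c
        exact ⟨r • x, map_smul f r x⟩ }
  let f' : N →ₗ[R] J :=
    { toFun := fun x => ⟨f x, x, rfl⟩
      map_add' := fun x y => Subtype.ext (map_add f x y)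
      map_smul' := fun r x => Subtype.ext (map_smul f r x) }
  let e : N ≃ₗ[R] J := LinearEquiv.ofBijective f'
    ⟨fun x y h => hf (congrArg Subtype.val h), fun ⟨_, x, rfl⟩ => ⟨x, rfl⟩⟩
  have h1 := (injective_iff_baseChange (R := R) M (R ⧸ I) J.subtype).mp
    (Module.Flat.rTensor_preserves_injective_linearMap J.subtype Subtype.val_injective)
  have h2 : f = (J.subtype.restrictScalars R).comp e.toLinearMap := rfl
  rw [h2, LinearMap.rTensor_comp, LinearMap.coe_comp]
  exact h1.comp (e.rTensor M).injective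

theorem flat_inf (I₁ I₂ : Ideal R) [Module.Flat (R ⧸ I₁) ((R ⧸ I₁) ⊗[R] M)]
    [Module.Flat (R ⧸ I₂) ((R ⧸ I₂) ⊗[R] M)] :
    Module.Flat (R ⧸ (I₁ ⊓ I₂)) ((R ⧸ (I₁ ⊓ I₂)) ⊗[R] M) := by
  rw [Module.Flat.iff_rTensor_injective']
  intro J
  rw [injective_iff_baseChange M]
  let q₁ : (R ⧸ (I₁ ⊓ I₂)) →ₗ[R] R ⧸ I₁ := Submodule.factor inf_le_left
  let q₂ : (R ⧸ (I₁ ⊓ I₂)) →ₗ[R] R ⧸ I₂ := Submodule.factor inf_le_right
  let ι : J →ₗ[R] R ⧸ (I₁ ⊓ I₂) := J.subtype.restrictScalars R
  let f₁ := q₁.comp ι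
  have hex : Function.Exact (LinearMap.ker f₁).subtype f₁.rangeRestrict := LinearMap.exact_iff.2 (by simp)
  have hK : Function.Injective ((q₂.comp ι).comp (LinearMap.ker f₁).subtype) := by
    rintro ⟨⟨x, hx⟩, hx1⟩ ⟨⟨y, hy⟩, hy1⟩ h
    obtain ⟨a, rfl⟩ := Submodule.Quotient.mk_surjective _ x
    obtain ⟨b, rfl⟩ := Submodule.Quotient.mk_surjective _ y
    refine Subtype.ext (Subtype.ext ((Submodule.Quotient.eq _).2 ⟨?_, (Submodule.Quotient.eq I₂).1 h⟩))
    exact I₁.sub_mem ((Submodule.Quotient.mk_eq_zero I₁).1 (LinearMap.mem_ker.1 hx1))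
      ((Submodule.Quotient.mk_eq_zero I₁).1 (LinearMap.mem_ker.1 hy1))
  rw [injective_iff_map_eq_zero]
  intro z hz
  change ι.rTensor M z = 0 at hz
  have h1 : f₁.rangeRestrict.rTensor M z = 0 := by
    apply rTensor_injective M I₁ (LinearMap.range f₁).subtype Subtype.val_injective
    rw [map_zero, ← LinearMap.rTensor_comp_apply,
      show (LinearMap.range f₁).subtype.comp f₁.rangeRestrict = q₁.comp ι from LinearMap.ext fun _ => rfl,
      LinearMap.rTensor_comp_apply, hz, map_zero]
  obtain ⟨w, rfl⟩ := (rTensor_exact M hex f₁.surjective_rangeRestrict z).mp h1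
  have h2 : w = 0 := by
    apply rTensor_injective M I₂ _ hK
    rw [map_zero, LinearMap.rTensor_comp_apply, LinearMap.rTensor_comp_apply, hz, map_zero]
  rw [h2, map_zero]

end Groth.Agent.FlatInter
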